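import Cfsg.Prelude.Def_OddOrderChar
import Cfsg.Agent.OddChar.Coherence.TI
import Cfsg.Agent.OddChar.Coherence.FrobeniusFeit
import Cfsg.Agent.OddChar.Dade.Basic
import Cfsg.Agent.S1500
import Cfsg.Agent.S1501
import Cfsg.Agent.S1524
import Cfsg.Agent.S1537
import Cfsg.Agent.S0040
import Cfsg.Agent.BlocksChars.SmallCentralizer.PGroup

/-!
# Coherence for maximal subgroups of Type I that are Frobenius groups
-/

set_option autoImplicit false
set_option linter.unusedSectionVars false
set_option linter.style.haveILetI false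

namespace Cfsg.Agent.OddChar.TypeOne

open Cfsg Subgroup
open Cfsg.Agent.Characters Cfsg.Agent.OddChar.Isometry Cfsg.Agent.OddChar.Coherence

variable {G : Type*} [Group G]

theorem dade_add (A : Set G) (L : Subgroup G) (R : G → Subgroup G) (α β : L → ℂ) :
    dadeIsometry A L R (α + β) = dadeIsometry A L R α + dadeIsometry A L R β := by
  funext g
  simp only [Pi.add_apply, dadeIsometry]
  split_ifs <;> simp

theorem dade_zsmul (A : Set G) (L : Subgroup G) (R : G → Subgroup G) (n : ℤ) (α : L → ℂ) :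
    dadeIsometry A L R (n • α) = n • dadeIsometry A L R α := by
  funext g
  simp only [Pi.smul_apply, dadeIsometry]
  split_ifs <;> simp

theorem exponent_eq_card {U : Type*} [Group U] [Finite U] (hodd : Odd (Nat.card U))
    (h : ∀ (p : ℕ) [Fact p.Prime] (P : Sylow p U),
      IsCyclic P ∨ ∃ n : ℕ, Nonempty (P ≃* QuaternionGroup (2 ^ n))) :
    Monoid.exponent U = Nat.card U := by
  refine Nat.dvd_antisymm Group.exponent_dvd_nat_card ((Nat.dvd_iff_prime_pow_dvd_dvd _ _).2 ?_)
  intro p k hp hk
  haveI := Fact.mk hp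
  obtain P : Sylow p U := default
  have hc : IsCyclic P := (h p P).resolve_right fun ⟨n, ⟨e⟩⟩ => by
    have h1 : Nat.card (P : Subgroup U) = 4 * 2 ^ n := by
      rw [Nat.card_congr e.toEquiv, Nat.card_eq_fintype_card, QuaternionGroup.card]
    have h2 := hodd.of_dvd_nat (Subgroup.card_subgroup_dvd_card (P : Subgroup U))
    rw [h1] at h2
    exact Nat.not_even_iff_odd.2 h2 ⟨2 * 2 ^ n, by ring⟩
  obtain ⟨g, hg⟩ := (isCyclic_iff_exists_orderOf_eq_natCard.1 hc)
  have h2 : orderOf (g : U) = p ^ (Nat.card U).factorization p := by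
    rw [Subgroup.orderOf_coe, hg]; exact P.card_eq_multiplicity
  exact ((pow_dvd_pow p ((hp.pow_dvd_iff_le_factorization Nat.card_pos.ne').1 hk)).trans
    (dvd_of_eq h2.symm)).trans (Monoid.order_dvd_exponent _)

variable [Fintype G]

theorem main (hG : IsMinSimpleOddOrder G) (L : Subgroup G) [Fintype L] (hL : IsCoatom L)
    (hI : IsOfTypeI L)
    (hfrob : ∀ x ∈ fittingHallOf L, x ≠ 1 → L ⊓ centralizer ({x} : Set G) ≤ fittingHallOf L) :
    (∀ χ ∈ inducedIrrAbove (fittingHall L) ⊥, IsIrrCharacter L χ) ∧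
      IsCoherent (inducedIrrAbove (fittingHall L) ⊥) {1}ᶜ
        (dadeIsometry (typeA L) L (supportR L)) := by
  classical
  obtain ⟨-, hD⟩ := S1537.result hG L hL (typeA L) (Or.inr (Or.inl rfl))
  obtain ⟨⟨-, hodd, hH1, hH2, U, hU1, hcompl, -, -⟩, hcases⟩ := id hI
  set H := fittingHall (L : Subgroup G) with hHdef
  have hmemH : ∀ y : L, y ∈ H → (y : G) ∈ fittingHallOf L := fun y hy => mem_map_of_mem L.subtype hy
  have hmemH' : ∀ y : L, (y : G) ∈ fittingHallOf L → y ∈ H := by
    rintro y ⟨z, hz, e⟩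
    rwa [← Subtype.ext (e : (z : G) = y)]
  have hC : ∀ h ∈ H, h ≠ 1 → centralizer ({h} : Set L) ≤ H := by
    intro h hh hh1 y hy
    refine hmemH' y (hfrob _ (hmemH h hh) (fun e => hh1 (Subtype.ext e)) (mem_inf.2 ⟨y.2, ?_⟩))
    rw [mem_centralizer_singleton_iff] at hy ⊢
    exact congrArg Subtype.val hy
  have hA : ∀ y : L, y ∈ H → y ≠ 1 → (y : G) ∈ typeA L := by
    intro y hy hy1
    have hy1' : (y : G) ≠ 1 := fun e => hy1 (Subtype.ext e)
    rw [typeA, if_pos hI]
    exact ⟨y.2, hy1', y, hmemH y hy, hy1', rfl⟩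
  have hS := TI.inducedIrrAbove_eq L H hC
  refine ⟨fun χ hχ => (hS ▸ hχ : χ ∈ TI.nontrivOn L H).1, ?_⟩
  have hsupp : ∀ α ∈ zspanOn (TI.nontrivOn L H) {1}ᶜ, ∀ x : L, (x : G) ∉ typeA L → α x = 0 := by
    intro α hα x hx
    by_cases hxH : x ∈ H
    · by_cases hx1 : x = 1
      · rw [hx1]; exact apply_one_eq_zero hα
      · exact absurd (hA x hxH hx1) hx
    · exact TI.vanish_off L H hC hα.1 hxH
  have hτ1 : ∀ α ∈ zspanOn (TI.nontrivOn L H) {1}ᶜ,
      dadeIsometry (typeA L) L (supportR L) α 1 = 0 := by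
    intro α _
    refine Dade.apply_eq_zero fun a ha x u hu e => hD.one_not_mem ?_
    rw [mul_one, mul_inv_cancel] at e
    have h1 : u ∈ L ⊓ centralizer ({a} : Set G) := by
      rw [eq_inv_of_mul_eq_one_right e.symm]
      exact inv_mem (mem_inf.2 ⟨hD.subset ha, mem_centralizer_singleton_iff.2 rfl⟩)
    have h2 : u = 1 := mem_bot.1 ((hD.inf_eq_bot a ha).le (mem_inf.2 ⟨hu, h1⟩))
    rw [h2, mul_one] at e
    rwa [← e] at ha
  have hgen : ∀ α ∈ zspanOn (TI.nontrivOn L H) {1}ᶜ, IsGeneralizedCharacter L α := fun α hα =>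
    TI.isGen_of_mem L H hC hα.1
  have hτ : IsLinearIsometryOn (zspanOn (TI.nontrivOn L H) {1}ᶜ)
      (dadeIsometry (typeA L) L (supportR L)) :=
    ⟨fun α _ β _ => dade_add _ _ _ α β, fun α _ n => dade_zsmul _ _ _ n α,
      fun α hα β hβ => (S1500.result _ L _ hD α (isGen_isClassFunction (hgen α hα)) (hsupp α hα)).1 β
        (isGen_isClassFunction (hgen β hβ)) (hsupp β hβ),
      fun α hα => S1501.result _ L _ hD α (hgen α hα) (hsupp α hα)⟩
  have hoddH : Odd (Nat.card H) := hodd.of_dvd_nat (card_subgroup_dvd_card H)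
  have hoddI : Odd H.index := hodd.of_dvd_nat H.index_dvd_card
  have he : Nat.card H ≠ H.index + 1 := fun e => by
    rw [Nat.odd_iff] at hoddH hoddI; omega
  rw [hS]
  rcases Frobenius.feit H hC hH1 hH2 he hτ hτ1 with h | ⟨p, hp, ⟨m, hm⟩, hnc, hbound⟩
  · exact h
  haveI := Fact.mk hp
  have hfpf : ∀ u ∈ U, u ≠ 1 → H ⊓ centralizer ({u} : Set L) = ⊥ := by
    intro u hu hu1
    refine eq_bot_iff.2 fun z hz => mem_bot.2 (by_contra fun hz1 => hu1 ?_)
    obtain ⟨hzH, hzu⟩ := mem_inf.1 hz
    have : u ∈ centralizer ({z} : Set L) :=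
      mem_centralizer_singleton_iff.2 (mem_centralizer_singleton_iff.1 hzu).symm
    exact mem_bot.1 (hcompl.disjoint.eq_bot.le (mem_inf.2 ⟨hC z hzH hz1 this, hu⟩))
  rcases hcases with hti | ⟨hab, -⟩ | ⟨hexp, -⟩
  · -- the trivial intersection case
    have hnorm : normalizer (fittingHallOf L : Set G) = L := by
      refine le_antisymm ?_ (OddLocal.FittingStructure.le_normalizer_fittingHallOf L)
      by_contra hne
      have htop : normalizer (fittingHallOf L : Set G) = ⊤ :=
        (hL.2 _ (lt_of_le_not_ge (OddLocal.FittingStructure.le_normalizer_fittingHallOf L) hne))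
      haveI := normalizer_eq_top_iff.1 htop
      haveI := hG.2.1
      rcases IsSimpleGroup.eq_bot_or_eq_top_of_normal (fittingHallOf L) inferInstance with h | h
      · exact hH1 ((map_eq_bot_iff_of_injective _ L.subtype_injective).1 h)
      · exact hL.1 (top_le_iff.1 (h ▸ map_subtype_le H))
    have hcoh := S1524.result (fittingHallOf L) L (U.map L.subtype) hodd (map_subtype_le H)
      (map_subtype_le U) (fun e => hH1 ((map_eq_bot_iff_of_injective _ L.subtype_injective).1 e))
      (fun e => hU1 ((map_eq_bot_iff_of_injective _ L.subtype_injective).1 e))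
      (by
        haveI := Frobenius.nilpotent H hC hH2
        exact Group.nilpotent_of_mulEquiv (H.equivMapOfInjective L.subtype L.subtype_injective))
      (fun x hx h hh => (mem_normalizer_iff.1 (OddLocal.FittingStructure.le_normalizer_fittingHallOf L hx) h).1 hh)
      (by
        rw [show fittingHallOf L = H.map L.subtype from rfl,
          ← Subgroup.map_inf _ _ _ L.subtype_injective, hcompl.disjoint.eq_bot, Subgroup.map_bot])
      (by
        rw [show fittingHallOf L = H.map L.subtype from rfl, ← Subgroup.map_sup, hcompl.sup_eq_top,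
          ← MonoidHom.range_eq_map, range_subtype])
      (by
        rintro _ ⟨u, hu, rfl⟩ hu1 _ ⟨z, hz, rfl⟩ e
        have hz0 : z ∈ H ⊓ centralizer ({u} : Set L) :=
          mem_inf.2 ⟨hz, mem_centralizer_singleton_iff.2 (Subtype.ext e.symm)⟩
        rw [hfpf u hu (fun h => hu1 (by rw [h, map_one])), mem_bot] at hz0
        rw [hz0, map_one])
      hti hnorm
    have hsub : (fittingHallOf L).subgroupOf L = H :=
      comap_map_eq_self_of_injective L.subtype_injective H
    rw [hsub, hS] at hcoh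
    have hTI' : ∀ y : L, y ∈ H → y ≠ 1 → ∀ x : G, ∀ hx : x⁻¹ * (y : G) * x ∈ L,
        (⟨_, hx⟩ : L) ∈ H → x ∈ L := by
      intro y hy hy1 x hx hxH
      by_contra hxL
      refine hy1 (Subtype.ext (hti x⁻¹ (fun h => hxL ?_) y (hmemH y hy)
        (by rw [inv_inv]; exact hmemH _ hxH)))
      rw [hnorm] at h
      simpa using inv_mem h
    have hR : ∀ y : L, y ∈ H → y ≠ 1 → centralizer ({(y : G)} : Set G) ≤ L := by
      intro y hy hy1 c hc
      have e : c⁻¹ * (y : G) * c = y := by
        rw [mul_assoc, ← mem_centralizer_singleton_iff.1 hc, inv_mul_cancel_left]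
      exact hTI' y hy hy1 c (e.symm ▸ y.2) (by
        convert hy using 1; exact Subtype.ext e)
    obtain ⟨hne, τ₁, hτ₁, hagree⟩ := hcoh
    refine ⟨hne, τ₁, hτ₁, fun α hα => ?_⟩
    rw [hagree α hα]
    have hαc := isGen_isClassFunction (hgen α hα)
    have hoff : ∀ y, y ∉ H → α y = 0 := fun y hy => TI.vanish_off L H hC hα.1 hy
    have hdc := Dade.isClassFunction hD hαc
    have hic : IsClassFunction G (indFun L α) :=
      isGen_isClassFunction (isGen_indFun L (hgen α hα))
    funext g
    show indFun L α g = _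
    by_cases hg : ∃ y : L, y ∈ H ∧ y ≠ 1 ∧ ∃ x : G, x * g * x⁻¹ = (y : G)
    · obtain ⟨y, hy, hy1, x, hx⟩ := hg
      rw [← hic g x, ← hdc g x, hx, TI.ind_value L H hTI' hαc hoff hy hy1,
        Dade.apply_eq hD hαc (hA y hy hy1) (one_mem _) (x := 1) (g := (y : G)) (by group)]
    · push Not at hg
      have hzero : ∀ y : L, (∃ x : G, x * g * x⁻¹ = (y : G)) → α y = 0 := by
        rintro y ⟨x, hx⟩
        by_cases hy : y ∈ H
        · by_cases hy1 : y = 1
          · rw [hy1]; exact apply_one_eq_zero hα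
          · exact absurd hx (hg y hy hy1 x)
        · exact hoff y hy
      trans (0 : ℂ)
      · refine Induce.indFun_eq_zero L α g fun x => ?_
        by_cases hx : x⁻¹ * g * x ∈ L
        · rw [CharTheory.IndBasic.extendByZero_of_mem L α hx]
          exact hzero ⟨_, hx⟩ ⟨x⁻¹, by simp⟩
        · exact CharTheory.IndBasic.extendByZero_of_notMem L α hx
      · symm
        by_cases h : ∃ a ∈ typeA L, ∃ x : G, ∃ u ∈ supportR L a, x * g * x⁻¹ = a * u
        · obtain ⟨a, ha, x, u, hu, e⟩ := h
          rw [Dade.apply_eq hD hαc ha hu e]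
          by_cases haH : (⟨a, hD.subset ha⟩ : L) ∈ H
          · refine hzero _ ⟨x, ?_⟩
            have h1 : supportR L a = ⊥ := OddLocal.SupportR.supportR_of_le
              (hR ⟨a, hD.subset ha⟩ haH fun e' => hD.one_not_mem
                ((show a = 1 from congrArg Subtype.val e') ▸ ha))
            rw [h1, mem_bot] at hu
            rw [e, hu, mul_one]
          · exact hoff _ haH
        · push Not at h
          exact Dade.apply_eq_zero h
  · refine absurd ⟨⟨fun a b => Subtype.ext (Subtype.ext ?_)⟩⟩ hnc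
    simpa using congrArg Subtype.val (hab.is_comm.comm ⟨_, hmemH a a.2⟩ ⟨_, hmemH b b.2⟩)
  · -- the exponent case
    exfalso
    have hm0 : m ≠ 0 := fun h => hH1 (card_eq_one.1 (by rw [hm, h, pow_zero]))
    have hpH : p ∣ Nat.card (fittingHallOf L) := by
      rw [show fittingHallOf L = H.map L.subtype from rfl, card_map_of_injective L.subtype_injective,
        hm]
      exact dvd_pow_self p hm0
    have hq := hexp p hp hpH
    have heU : Monoid.exponent (↥L ⧸ H) = H.index := by
      rw [Monoid.exponent_eq_of_mulEquiv hcompl.symm.QuotientMulEquiv, exponent_eq_card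
        (hodd.of_dvd_nat (card_subgroup_dvd_card U))
        fun q _ Q => S0040.result H U hcompl hH1 hfpf q Q]
      exact hcompl.symm.index_eq_card.symm
    rw [heU] at hq
    have hp2 : p ≠ 2 := by
      rintro rfl
      exact Nat.not_odd_iff_even.2 (even_iff_two_dvd.2 (hm ▸ dvd_pow_self 2 hm0)) hoddH
    obtain ⟨k, hk⟩ := hq
    have h2k : 2 * H.index ≤ p - 1 := by
      have hk0 : k ≠ 0 := fun h => by rw [h, mul_zero] at hk; have := hp.two_le; omega
      have hk1 : k ≠ 1 := fun h => by
        rw [h, mul_one] at hk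
        have := hp.eq_two_or_odd.resolve_left hp2
        rw [Nat.odd_iff] at hoddI
        omega
      rw [hk, mul_comm 2]
      exact Nat.mul_le_mul_left _ (by omega)
    refine hnc ⟨⟨fun a b => commutatorElement_eq_one_iff_mul_comm.1 (mem_bot.1
      ((BlocksChars.SmallCentralizer.comm_of_index_commutator_lt (IsPGroup.of_card hm) ?_).le
        (commutator_mem_commutator (mem_top a) (mem_top b))))⟩⟩
    have := hp.two_le
    calc (commutator H).index ≤ 4 * H.index ^ 2 + 1 := hbound
      _ < p ^ 2 := by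
        have h1 : 2 * H.index + 1 ≤ p := by omega
        have h2 : (2 * H.index + 1) ^ 2 ≤ p ^ 2 := Nat.pow_le_pow_left h1 2
        have h3 : 0 < H.index := hoddI.pos
        nlinarith

end Cfsg.Agent.OddChar.TypeOne
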